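import Groth.Agent.FormEquiv.Thicken
import Groth.Agent.W7Exist.Killed
import Groth.Agent.GrothSS.ChangeRings
import Groth.Agent.QC.Localisation

/-!
Modules killed by a power of an ideal live on the thickening.
-/

set_option autoImplicit false
set_option backward.isDefEq.respectTransparency false
set_option backward.isDefEq.respectTransparency.types false
set_option linter.style.haveILetI false
set_option maxHeartbeats 1000000

universe u

open CategoryTheory CategoryTheory.Limits AlgebraicGeometry TopologicalSpace Opposite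

noncomputable section

namespace Groth.Agent.FormEquiv

/-- Base change to a quotient of a module killed by the ideal is bijective. -/
theorem bijective_of_isBaseChange {R : Type u} [CommRing R] (J : Ideal R)
    {M N : Type u} [AddCommGroup M] [Module R M] [AddCommGroup N] [Module R N] [Module (R ⧸ J) N]
    [IsScalarTower R (R ⧸ J) N] (h : ∀ a ∈ J, ∀ x : M, a • x = 0) {p : M →ₗ[R] N}
    (hp : IsBaseChange (R ⧸ J) p) : Function.Bijective p := by
  have hM : Module.IsTorsionBySet R M (J : Set R) := fun x a => h a.1 a.2 x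
  letI := hM.module
  haveI : IsScalarTower R (R ⧸ J) M := hM.isScalarTower
  refine ⟨fun x y h => ?_, fun y => ?_⟩
  · have hl : ∀ x, hp.lift (LinearMap.id : M →ₗ[R] M) (p x) = x := fun x => hp.lift_eq _ x
    rw [← hl x, ← hl y, h]
  · induction y using hp.inductionOn with
    | zero => exact ⟨0, map_zero p⟩
    | tmul m => exact ⟨m, rfl⟩
    | smul s m hm =>
      obtain ⟨x, rfl⟩ := hm
      obtain ⟨a, rfl⟩ := Ideal.Quotient.mk_surjective s
      exact ⟨a • x, by rw [map_smul]; exact (algebraMap_smul (R ⧸ J) a (p x)).symm⟩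
    | add a b ha hb =>
      obtain ⟨x, rfl⟩ := ha
      obtain ⟨y, rfl⟩ := hb
      exact ⟨x + y, map_add p x y⟩

variable {A : Type u} [CommRing A] {I : Ideal A} {X : Scheme.{u}} [X.Over (Spec (CommRingCat.of A))]

/-- The inclusion of a thickening. -/
abbrev ιk (I : Ideal A) (X : Scheme.{u}) [X.Over (Spec (CommRingCat.of A))] (n : ℕ) :
    pullback (X ↘ Spec (CommRingCat.of A)) (CohB1.specQuot I n) ⟶ X :=
  pullback.fst (X ↘ Spec (CommRingCat.of A)) (CohB1.specQuot I n)

instance isClosedImmersion_ιk (n : ℕ) : IsClosedImmersion (ιk I X n) :=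
  haveI : IsClosedImmersion (CohB1.specQuot I n) := IsClosedImmersion.spec_of_surjective _ Ideal.Quotient.mk_surjective
  MorphismProperty.pullback_fst _ _ inferInstance

/-- The structure over the quotient. -/
@[reducible] def overK (n : ℕ) :
    (pullback (X ↘ Spec (CommRingCat.of A)) (CohB1.specQuot I n)).Over (Spec (CommRingCat.of (A ⧸ I ^ (n + 1)))) :=
  ⟨pullback.snd _ _⟩

lemma sqK (n : ℕ) :
    letI := overK (I := I) (X := X) n
    IsPullback (ιk I X n) (pullback (X ↘ Spec (CommRingCat.of A)) (CohB1.specQuot I n) ↘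
      Spec (CommRingCat.of (A ⧸ I ^ (n + 1)))) (X ↘ Spec (CommRingCat.of A))
      (Spec.map (CommRingCat.ofHom (algebraMap A (A ⧸ I ^ (n + 1))))) :=
  IsPullback.of_hasPullback _ _

/-- The unit is an isomorphism on killed modules. -/
theorem isIso_unit (n : ℕ) {N : X.Modules} (hN : Coh.IsQCoh N) (hk : Formal.KilledBy (I ^ (n + 1)) N) :
    IsIso ((Scheme.Modules.pullbackPushforwardAdjunction (ιk I X n)).unit.app N) := by
  let g := ιk I X n
  letI := overK (I := I) (X := X) n
  let B := A ⧸ I ^ (n + 1)
  let η := (Scheme.Modules.pullbackPushforwardAdjunction g).unit.app N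
  haveI : ((Scheme.Modules.pullback g).obj N).IsQuasicoherent := QC.isQCoh_pullback g hN
  have hPq : Coh.IsQCoh ((Scheme.Modules.pushforward g).obj ((Scheme.Modules.pullback g).obj N)) :=
    QC.isQCoh_pushforward g
  refine QC.isIso_of_restrict_cover (fun U : X.affineOpens => U.2.fromSpec) (fun x => ?_) η fun U => ?_
  · obtain ⟨U, hU, hxU, -⟩ := exists_isAffineOpen_mem_and_subset (x := x) (U := ⊤) trivial
    exact ⟨⟨U, hU⟩, by rwa [IsAffineOpen.range_fromSpec]⟩
  refine QC.isIso_restrict_of_bijective U.2 hN hPq η ?_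
  let N' := ((W7Cech.secA B (g ⁻¹ᵁ U.1)).obj ((Scheme.Modules.pullback g).obj N) : ModuleCat.{u} B)
  letI : Module A (N' : Type u) := Module.compHom (N' : Type u) (algebraMap A B)
  haveI : IsScalarTower A B (N' : Type u) := IsScalarTower.of_algebraMap_smul fun _ _ => rfl
  exact bijective_of_isBaseChange (I ^ (n + 1)) (M := ((W7Cech.secA A U.1).obj N : Type u)) (N := (N' : Type u))
    (fun a ha x => W7Exist.smul_eq_zero_of_killedBy hk U.1 (W7Cech.secRing A U.1 a) (Ideal.mem_map_of_mem _ ha)
      (show Γ(N, U.1) from x))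
    (W7Cech.isBaseChange_pullSec A B g (sqK n) hN U.2)

/-- Pulling back to the thickening is bijective on maps of killed modules. -/
theorem bijective_pullMap (n : ℕ) (N₁ : X.Modules) {N₂ : X.Modules} (h : Coh.IsQCoh N₂)
    (hk : Formal.KilledBy (I ^ (n + 1)) N₂) :
    Function.Bijective (fun u : N₁ ⟶ N₂ => (Scheme.Modules.pullback (ιk I X n)).map u) := by
  let adj := Scheme.Modules.pullbackPushforwardAdjunction (ιk I X n)
  haveI := isIso_unit n h hk
  have he : ∀ u : N₁ ⟶ N₂, adj.homEquiv _ _ ((Scheme.Modules.pullback (ιk I X n)).map u) = u ≫ adj.unit.app N₂ :=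
    fun u => by rw [adj.homEquiv_unit]; exact (adj.unit.naturality u).symm
  refine ⟨fun u v huv => ?_, fun v => ⟨adj.homEquiv _ _ v ≫ inv (adj.unit.app N₂), (adj.homEquiv _ _).injective ?_⟩⟩
  · rw [← cancel_mono (adj.unit.app N₂), ← he, ← he]
    exact congrArg _ huv
  · rw [he, Category.assoc, IsIso.inv_hom_id, Category.comp_id]

/-- Direct images from the thickening are killed. -/
theorem killedBy_ιk (n : ℕ) (M : (pullback (X ↘ Spec (CommRingCat.of A)) (CohB1.specQuot I n)).Modules) :
    Formal.KilledBy (I ^ (n + 1)) ((Scheme.Modules.pushforward (ιk I X n)).obj M) := by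
  letI := overK (I := I) (X := X) n
  refine W7Exist.killedBy_push (φ := Ideal.Quotient.mk (I ^ (n + 1))) (sqK n).w fun b hb => ?_
  obtain rfl : b = 0 := by rwa [Ideal.map_quotient_self, Ideal.mem_bot] at hb
  refine Scheme.Modules.hom_ext _ _ fun W => ?_
  ext m
  change W7Cech.secRing _ W 0 • m = 0
  rw [map_zero, zero_smul]

section Pull

variable {X' : Scheme.{u}} [X'.Over (Spec (CommRingCat.of A))] {f : X' ⟶ X}
  (hf : f ≫ (X ↘ Spec (CommRingCat.of A)) = X' ↘ Spec (CommRingCat.of A))

/-- Pulling back along an isomorphism is an equivalence. -/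
theorem isEquivalence_pullback {T S : Scheme.{u}} (e : T ⟶ S) [IsIso e] :
    (Scheme.Modules.pullback e).IsEquivalence :=
  (CategoryTheory.Equivalence.mk (Scheme.Modules.pullback e) (Scheme.Modules.pullback (inv e))
    ((Scheme.Modules.pullbackComp (inv e) e) ≪≫ Scheme.Modules.pullbackCongr (IsIso.inv_hom_id e) ≪≫
      Scheme.Modules.pullbackId S).symm
    ((Scheme.Modules.pullbackComp e (inv e)) ≪≫ Scheme.Modules.pullbackCongr (IsIso.hom_inv_id e) ≪≫
      Scheme.Modules.pullbackId T)).isEquivalence_functor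

/-- Pulling back and then to the thickening. -/
def pullKIso (n : ℕ) : Scheme.Modules.pullback f ⋙ Scheme.Modules.pullback (ιk I X' n) ≅
    Scheme.Modules.pullback (ιk I X n) ⋙ Scheme.Modules.pullback (fk hf (I := I) n) :=
  Scheme.Modules.pullbackComp _ _ ≪≫ Scheme.Modules.pullbackCongr (isPullback_fk hf n).w ≪≫
    (Scheme.Modules.pullbackComp _ _).symm

include hf in
lemma killedBy_pullback (n : ℕ) {N : X.Modules} (hk : Formal.KilledBy (I ^ (n + 1)) N) :
    Formal.KilledBy (I ^ (n + 1)) ((Scheme.Modules.pullback f).obj N) := by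
  have h := W7Exist.killedBy_pull (φ := RingHom.id A) (q := f)
    (hq := by rw [hf, CommRingCat.ofHom_id, Spec.map_id, Category.comp_id]) hk
  rwa [Ideal.map_id] at h

variable (n : ℕ) [IsIso (fk hf (I := I) n)]

include hf in
/-- Pulling back is bijective on maps of killed modules. -/
theorem bijective_map (N₁ : X.Modules) {N₂ : X.Modules} (h : Coh.IsQCoh N₂)
    (hk : Formal.KilledBy (I ^ (n + 1)) N₂) :
    Function.Bijective (fun u : N₁ ⟶ N₂ => (Scheme.Modules.pullback f).map u) := by
  haveI := isEquivalence_pullback (fk hf (I := I) n)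
  let e := pullKIso hf (I := I) n
  let F := Scheme.Modules.pullback (ιk I X n) ⋙ Scheme.Modules.pullback (fk hf (I := I) n)
  have hF : Function.Bijective (fun u : N₁ ⟶ N₂ => F.map u) :=
    (Functor.FullyFaithful.ofFullyFaithful (Scheme.Modules.pullback (fk hf (I := I) n))).map_bijective _ _ |>.comp
      (bijective_pullMap n N₁ h hk)
  have hG : Function.Bijective (fun u : N₁ ⟶ N₂ =>
      (Scheme.Modules.pullback f ⋙ Scheme.Modules.pullback (ιk I X' n)).map u) := by
    have : (fun u : N₁ ⟶ N₂ => (Scheme.Modules.pullback f ⋙ Scheme.Modules.pullback (ιk I X' n)).map u) =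
        (Iso.homCongr (e.app N₁) (e.app N₂)).symm ∘ fun u => F.map u := funext fun u => by
      exact (NatIso.naturality_2 e u).symm
    rw [this]
    exact (Equiv.bijective _).comp hF
  exact (Function.Bijective.of_comp_iff' (bijective_pullMap (X := X') n ((Scheme.Modules.pullback f).obj N₁)
    (QC.isQCoh_pullback f h) (killedBy_pullback hf n hk)) _).1 hG

include hf in
/-- Every killed coherent module comes from below. -/
theorem exists_preimage {N' : X'.Modules} (h : Coh.IsCoh N') (hk : Formal.KilledBy (I ^ (n + 1)) N') :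
    ∃ N : X.Modules, Coh.IsCoh N ∧ Formal.KilledBy (I ^ (n + 1)) N ∧
      Nonempty ((Scheme.Modules.pullback f).obj N ≅ N') := by
  let e := fk hf (I := I) n
  let M := (Scheme.Modules.pullback (inv e)).obj ((Scheme.Modules.pullback (ιk I X' n)).obj N')
  have hM : Coh.IsCoh M := QC.isCoh_pullback _ (QC.isCoh_pullback _ h)
  haveI : M.IsQuasicoherent := hM.1
  let N := (Scheme.Modules.pushforward (ιk I X n)).obj M
  have hN : Coh.IsCoh N := QC.isCoh_pushforward_of_isFinite (ιk I X n) hM.2
  have hNk : Formal.KilledBy (I ^ (n + 1)) N := killedBy_ιk n M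
  refine ⟨N, hN, hNk, ?_⟩
  haveI := GrothSS.isIso_counit_push (ιk I X n)
  let w : (Scheme.Modules.pullback (ιk I X' n)).obj ((Scheme.Modules.pullback f).obj N) ≅
      (Scheme.Modules.pullback (ιk I X' n)).obj N' :=
    (pullKIso hf n).app N ≪≫
      (Scheme.Modules.pullback e).mapIso (asIso ((Scheme.Modules.pullbackPushforwardAdjunction _).counit.app M)) ≪≫
      (Scheme.Modules.pullbackComp e (inv e) ≪≫ Scheme.Modules.pullbackCongr (IsIso.hom_inv_id e) ≪≫
        Scheme.Modules.pullbackId _).app _
  have hbq := QC.isQCoh_pullback f hN.1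
  have hbk := killedBy_pullback hf n hNk
  obtain ⟨a, ha⟩ := (bijective_pullMap n ((Scheme.Modules.pullback f).obj N) h.1 hk).2 w.hom
  obtain ⟨b, hb⟩ := (bijective_pullMap n N' hbq hbk).2 w.inv
  refine ⟨⟨a, b, (bijective_pullMap n _ hbq hbk).1 ?_, (bijective_pullMap n _ h.1 hk).1 ?_⟩⟩
  all_goals simp only [Functor.map_comp, Functor.map_id]
  · rw [show (Scheme.Modules.pullback (ιk I X' n)).map a = w.hom from ha,
      show (Scheme.Modules.pullback (ιk I X' n)).map b = w.inv from hb, w.hom_inv_id]; exact ((Scheme.Modules.pullback (ιk I X' n)).map_id _).symm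
  · rw [show (Scheme.Modules.pullback (ιk I X' n)).map a = w.hom from ha,
      show (Scheme.Modules.pullback (ιk I X' n)).map b = w.inv from hb, w.inv_hom_id]; exact ((Scheme.Modules.pullback (ιk I X' n)).map_id _).symm

end Pull

end Groth.Agent.FormEquiv
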