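import Groth.Agent.FormEquiv.Killed
import Groth.Agent.W7Exist.Formal
import Groth.Agent.W7Rees.Push
import Groth.Agent.FormLim.Principal

/-!
Coherent formal modules do not change along a flat morphism which is an isomorphism on the closed subscheme.
-/

set_option autoImplicit false
set_option backward.isDefEq.respectTransparency false
set_option backward.isDefEq.respectTransparency.types false
set_option linter.style.haveILetI false
set_option maxHeartbeats 1000000

universe u

open CategoryTheory CategoryTheory.Limits AlgebraicGeometry TopologicalSpace Opposite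

noncomputable section

namespace Groth.Agent.FormEquiv

variable {A : Type u} [CommRing A] {I : Ideal A} {X X' : Scheme.{u}} [X.Over (Spec (CommRingCat.of A))]
  [X'.Over (Spec (CommRingCat.of A))] {f : X' ⟶ X}
  (hf : f ≫ (X ↘ Spec (CommRingCat.of A)) = X' ↘ Spec (CommRingCat.of A))
  (hiso : ∀ n, IsIso (fk hf (I := I) n))
include hiso

/-- Pulling back is bijective on maps of formal modules. -/
theorem bijective_whisker (G₁ G₂ : ℕᵒᵖ ⥤ X.Modules) (h₂ : Formal.IsCohFormal I G₂) :
    Function.Bijective (fun φ : G₁ ⟶ G₂ => Functor.whiskerRight φ (Scheme.Modules.pullback f)) := by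
  let P := Scheme.Modules.pullback f
  have hb : ∀ (N : X.Modules) (n : ℕ), Function.Bijective (fun u : N ⟶ G₂.obj (op n) => P.map u) := fun N n =>
    haveI := hiso n
    bijective_map hf n N (h₂.1 n).1 (h₂.2.1 n)
  refine ⟨fun φ ψ h => NatTrans.ext (funext fun n => (hb _ n.unop).1 (congr($(h).app n))), fun v => ?_⟩
  choose u hu using fun n : ℕᵒᵖ => (hb (G₁.obj n) n.unop).2 (v.app n)
  refine ⟨⟨u, fun i j k => (hb (G₁.obj i) j.unop).1 ?_⟩, NatTrans.ext (funext hu)⟩
  change P.map (G₁.map k ≫ u j) = P.map (u i ≫ G₂.map k)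
  rw [P.map_comp, P.map_comp, show P.map (u i) = v.app i from hu i, show P.map (u j) = v.app j from hu j]
  exact v.naturality k

/-- Every formal module comes from below. -/
theorem exists_pullback_iso {G' : ℕᵒᵖ ⥤ X'.Modules} (hG' : Formal.IsCohFormal I G') :
    ∃ G : ℕᵒᵖ ⥤ X.Modules, Formal.IsCohFormal I G ∧ Nonempty (G ⋙ Scheme.Modules.pullback f ≅ G') := by
  let P := Scheme.Modules.pullback f
  haveI : P.IsLeftAdjoint := (Scheme.Modules.pullbackPushforwardAdjunction f).isLeftAdjoint
  choose N hN hk he using fun n => haveI := hiso n; exists_preimage hf n (hG'.1 n) (hG'.2.1 n)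
  let e := fun n => (he n).some
  have hb : ∀ (M : X.Modules) (n : ℕ) {Q : X.Modules}, Coh.IsQCoh Q → Formal.KilledBy (I ^ (n + 1)) Q →
      Function.Bijective (fun u : M ⟶ Q => P.map u) := fun M n Q hQ hQk =>
    haveI := hiso n
    bijective_map hf n M hQ hQk
  choose t ht using fun n => (hb (N (n + 1)) n (hN n).1 (hk n)).2 ((e (n + 1)).hom ≫ W7Exist.tn G' n ≫ (e n).inv)
  haveI hPe : ∀ n, Epi (P.map (t n)) := fun n => by
    haveI := W7Exist.epi_tn hG' n
    rw [show P.map (t n) = _ from ht n]
    exact epi_comp _ _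
  have hte : ∀ n, Epi (t n) := fun n => by
    refine Abelian.epi_of_cokernel_π_eq_zero _ ?_
    refine (hb _ n (QC.isQCoh_cokernel (hN _).1 (hN n).1 (t n)) fun a ha => ?_).1 ?_
    · rw [← cancel_epi (cokernel.π (t n)), ← W7Cech.smulMod_natural, hk n a ha, zero_comp, comp_zero]
    · change P.map (cokernel.π (t n)) = P.map 0
      rw [← cancel_epi (P.map (t n)), ← P.map_comp, ← P.map_comp, cokernel.condition, comp_zero]
  have hG : Formal.IsCohFormal I (Functor.ofOpSequence t) := by
    refine W7Exist.isCohFormal_of I N t hN hk hte fun n => ?_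
    let z := cokernel.π (Formal.smulFamily (I ^ (n + 1)) (N (n + 1)))
    have hz : ∀ a ∈ I ^ (n + 1), Formal.smulMod A (G'.obj (op (n + 1))) a ≫ (e (n + 1)).inv ≫ P.map z = 0 :=
      fun a ha => by
        rw [← Category.assoc, W7Cech.smulMod_natural, Category.assoc,
          show Formal.smulMod A (P.obj (N (n + 1))) a = P.map (Formal.smulMod A (N (n + 1)) a) from
            (W7Exist.pull_smulMod (φ := RingHom.id A) (q := f)
              (by rw [hf, CommRingCat.ofHom_id, Spec.map_id, Category.comp_id]) (N (n + 1)) a).symm, ← P.map_comp,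
          FormLim.smulMod_cokernel_π _ _ a ha, P.map_zero, comp_zero]
    obtain ⟨w, hw⟩ := W7Exist.exists_desc hG' n _ hz
    have hQk : Formal.KilledBy (I ^ (n + 1)) (cokernel (Formal.smulFamily (I ^ (n + 1)) (N (n + 1)))) :=
      fun a ha => W7Exist.π_smulMod I (n + 1) _ a ha
    have hQ : Coh.IsQCoh (cokernel (Formal.smulFamily (I ^ (n + 1)) (N (n + 1)))) :=
      W7Rees.isQCoh_modQuot _ _ (hN _).1
    obtain ⟨w', hw'⟩ := (hb (N n) n hQ hQk).2 ((e n).hom ≫ w)
    refine ⟨w', (hb (N (n + 1)) n hQ hQk).1 ?_⟩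
    change P.map (t n ≫ w') = P.map z
    rw [P.map_comp, show P.map (t n) = _ from ht n, show P.map w' = _ from hw']
    simp only [Category.assoc, Iso.inv_hom_id_assoc]
    rw [hw, Iso.hom_inv_id_assoc]
  let η : Functor.ofOpSequence t ⋙ P ⟶ G' := NatTrans.ofOpSequence (fun n => (e n).hom) fun n => by
    change P.map ((Functor.ofOpSequence t).map _) ≫ _ = _
    rw [Functor.ofOpSequence_map_homOfLE_succ, show P.map (t n) = _ from ht n]
    simp only [Category.assoc, Iso.inv_hom_id, Category.comp_id]
  exact ⟨Functor.ofOpSequence t, hG, ⟨NatIso.ofComponents (fun n => e n.unop) fun k => η.naturality k⟩⟩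

end Groth.Agent.FormEquiv
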