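import Groth.Agent.ThickSys.Desc
import Groth.Agent.W7Exist.Pull
import Mathlib.AlgebraicGeometry.Morphisms.FlatMono

/-!
A flat morphism which is an isomorphism modulo an ideal is one modulo all its powers.
-/

set_option autoImplicit false
set_option backward.isDefEq.respectTransparency false
set_option linter.style.haveILetI false

universe u

open CategoryTheory CategoryTheory.Limits AlgebraicGeometry TopologicalSpace

noncomputable section

namespace Groth.Agent.FormEquiv

/-- A flat morphism which is an isomorphism on a surjective closed subscheme is an isomorphism. -/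
theorem isIso_of_thickening {X Y X₀ Y₀ : Scheme.{u}} {a : X₀ ⟶ X} {b : X₀ ⟶ Y₀} {g : X ⟶ Y} {i : Y₀ ⟶ Y}
    [IsClosedImmersion i] [Surjective i] [IsLocallyNoetherian Y] [Flat g] [IsIso b]
    (sq : IsPullback a b g i) : IsIso g := by
  haveI := ThickSys.isClosedImmersion_of_thickening sq
  haveI : Surjective (a ≫ g) := by rw [sq.w]; infer_instance
  haveI : Surjective g := Surjective.of_comp a g
  exact Flat.isIso_of_surjective_of_mono g

variable {A : Type u} [CommRing A] {I : Ideal A} {X X' : Scheme.{u}} [X.Over (Spec (CommRingCat.of A))]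
  [X'.Over (Spec (CommRingCat.of A))] {f : X' ⟶ X}
  (hf : f ≫ (X ↘ Spec (CommRingCat.of A)) = X' ↘ Spec (CommRingCat.of A))

/-- The morphism of thickenings. -/
abbrev fk (n : ℕ) : pullback (X' ↘ Spec (CommRingCat.of A)) (CohB1.specQuot I n) ⟶
    pullback (X ↘ Spec (CommRingCat.of A)) (CohB1.specQuot I n) :=
  pullback.map _ _ _ _ f (𝟙 _) (𝟙 _) ((Category.comp_id _).trans hf.symm)
    ((Category.comp_id _).trans (Category.id_comp _).symm)

/-- The morphism of thickenings is a base change. -/
lemma isPullback_fk (n : ℕ) :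
    IsPullback (pullback.fst (X' ↘ Spec (CommRingCat.of A)) (CohB1.specQuot I n)) (fk hf (I := I) n) f
      (pullback.fst (X ↘ Spec (CommRingCat.of A)) (CohB1.specQuot I n)) := by
  refine IsPullback.of_bot ?_ (pullback.lift_fst _ _ _).symm (IsPullback.of_hasPullback _ _)
  rw [pullback.lift_snd, Category.comp_id, hf]
  exact IsPullback.of_hasPullback _ _

/-- The thickenings of a flat morphism are isomorphisms if the first one is. -/
theorem isIso_fk [IsLocallyNoetherian X] [Flat f] (h0 : IsIso (fk hf (I := I) 0)) (n : ℕ) :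
    IsIso (fk hf (I := I) n) := by
  let φ : A ⧸ I ^ (n + 1) →+* A ⧸ I ^ (0 + 1) := Ideal.Quotient.factor (Ideal.pow_le_pow_right (by omega))
  let j := Spec.map (CommRingCat.ofHom φ)
  have hφ : Function.Surjective φ := Ideal.Quotient.factor_surjective _
  have hj : j ≫ CohB1.specQuot I n = CohB1.specQuot I 0 := by
    simp only [j, CohB1.specQuot, ← Spec.map_comp, ← CommRingCat.ofHom_comp]
    rfl
  haveI : IsClosedImmersion j := IsClosedImmersion.spec_of_surjective _ hφ
  haveI : Surjective j := by
    refine ⟨fun p => ?_⟩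
    have hker : RingHom.ker φ ≤ nilradical (A ⧸ I ^ (n + 1)) := fun x hx => by
      obtain ⟨a, rfl⟩ := Ideal.Quotient.mk_surjective x
      rw [RingHom.mem_ker, Ideal.Quotient.factor_mk, Ideal.Quotient.eq_zero_iff_mem, pow_one] at hx
      refine mem_nilradical.2 ⟨n + 1, ?_⟩
      rw [← map_pow, Ideal.Quotient.eq_zero_iff_mem]
      exact Ideal.pow_mem_pow hx _
    have hr := range_comap_of_surjective _ φ hφ
    have : p ∈ Set.range (PrimeSpectrum.comap φ) := by
      rw [hr, PrimeSpectrum.mem_zeroLocus]
      exact hker.trans (nilradical_le_prime p.asIdeal)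
    exact this
  let tr : ∀ {W : Scheme.{u}} (w : W ⟶ Spec (CommRingCat.of A)),
      pullback w (CohB1.specQuot I 0) ⟶ pullback w (CohB1.specQuot I n) := fun w =>
    pullback.map _ _ _ _ (𝟙 _) j (𝟙 _) ((Category.comp_id _).trans (Category.id_comp _).symm)
      ((Category.comp_id _).trans hj.symm)
  have htr : ∀ {W : Scheme.{u}} (w : W ⟶ Spec (CommRingCat.of A)),
      IsPullback (tr w) (pullback.snd _ _) (pullback.snd _ _) j := fun {W} w => by
    refine IsPullback.of_right ?_ (pullback.lift_snd _ _ _) (IsPullback.of_hasPullback w (CohB1.specQuot I n)).flip.flip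
    rw [pullback.lift_fst, Category.comp_id, hj]
    exact IsPullback.of_hasPullback _ _
  have hsnd : ∀ m, fk hf (I := I) m ≫ pullback.snd _ _ = pullback.snd _ _ := fun m => by
    rw [pullback.lift_snd, Category.comp_id]
  have sq : IsPullback (tr (X' ↘ Spec (CommRingCat.of A))) (fk hf (I := I) 0) (fk hf (I := I) n)
      (tr (X ↘ Spec (CommRingCat.of A))) := by
    refine IsPullback.of_bot ?_ ?_ (htr _)
    · rw [hsnd, hsnd]; exact htr _
    · refine pullback.hom_ext ?_ ?_ <;> simp [tr, fk]
  haveI : IsClosedImmersion (tr (X ↘ Spec (CommRingCat.of A))) :=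
    MorphismProperty.of_isPullback (P := @IsClosedImmersion) (htr _).flip inferInstance
  haveI : Surjective (tr (X ↘ Spec (CommRingCat.of A))) :=
    MorphismProperty.of_isPullback (P := @Surjective) (htr _).flip inferInstance
  haveI : IsClosedImmersion (CohB1.specQuot I n) := IsClosedImmersion.spec_of_surjective _ Ideal.Quotient.mk_surjective
  haveI : IsClosedImmersion (pullback.fst (X ↘ Spec (CommRingCat.of A)) (CohB1.specQuot I n)) :=
    MorphismProperty.pullback_fst _ _ inferInstance
  haveI : IsLocallyNoetherian (pullback (X ↘ Spec (CommRingCat.of A)) (CohB1.specQuot I n)) :=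
    LocallyOfFiniteType.isLocallyNoetherian (pullback.fst _ _)
  haveI : Flat (fk hf (I := I) n) :=
    MorphismProperty.of_isPullback (P := @Flat) (isPullback_fk hf n) inferInstance
  exact isIso_of_thickening sq

end Groth.Agent.FormEquiv
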